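import Cfsg.Agent.Lib.U33.Checks
import Cfsg.Agent.Lib.Unitary.Order

/-! `SU₃(3)` over the concrete field: the 6048 elements and the 14 classes. -/

set_option autoImplicit false

namespace Cfsg.Agent.Lib.U33

/-- `SU₃(3)` over the concrete field -/
abbrev G : Type := ↥(Cfsg.SU 3 K9 3)

instance su33Finite : Finite G :=
  Finite.of_injective (fun g : G => g.1) Subtype.val_injective

noncomputable instance su33Fintype : Fintype G := Fintype.ofFinite G

theorem card_G : Nat.card G = 6048 := by
  have h := Cfsg.Agent.Lib.Unitary.card_SU (n := 3) card_k9 (by norm_num)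
  rw [Cfsg.Agent.Lib.Unitary.card_GU card_k9] at h
  norm_num [Finset.prod_range_succ, Nat.even_iff] at h
  show Nat.card (Cfsg.SU 3 K9 3) = 6048
  rw [Nat.card_eq_fintype_card]
  omega

theorem elt_good {i : Nat} (h : i < 6048) : goodN (eltN i) = true := allLt_spec good_elts h

theorem gen_good (q : Nat) : goodN (genN q) = true := by
  have h := good_gens
  simp only [Bool.and_eq_true] at h
  rcases q with _ | q
  · exact h.1
  · exact h.2

theorem id_good : goodN idN = true := by decide +kernel

def elt (i : Fin 6048) : G := el (eltN i.val)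

theorem elt_injective : Function.Injective elt := by
  intro a b h
  have e := el_inj (elt_good a.2) (elt_good b.2) h
  have hm : StrictMono fun i : Fin 6048 => eltN i.val := by
    rw [Fin.strictMono_iff_lt_succ]
    intro i
    have := allLt_spec elts_lt i.2
    rw [Nat.blt_eq] at this
    simpa using this
  exact hm.injective e

theorem elt_bijective : Function.Bijective elt :=
  elt_injective.bijective_of_nat_card_le (by rw [card_G, Nat.card_fin])

noncomputable def eltEquiv : Fin 6048 ≃ G := Equiv.ofBijective elt elt_bijective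

theorem eltEquiv_apply (i : Fin 6048) : eltEquiv i = elt i := rfl

/-- index of an element -/
noncomputable def idx (g : G) : Nat := (eltEquiv.symm g).val

theorem idx_lt (g : G) : idx g < 6048 := (eltEquiv.symm g).2

theorem el_idx (g : G) : el (eltN (idx g)) = g := eltEquiv.apply_symm_apply g

theorem idx_el {i : Nat} (h : i < 6048) : idx (el (eltN i)) = i :=
  congrArg Fin.val (eltEquiv.symm_apply_apply ⟨i, h⟩)

theorem one_lt : oneI < 6048 := by
  have h := one_eq
  simp only [Bool.and_eq_true, Nat.blt_eq] at h
  exact h.2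

theorem el_one : el (eltN oneI) = 1 := by
  have h := one_eq
  simp only [Bool.and_eq_true] at h
  rw [Nat.eq_of_beq_eq_true h.1, el_idN]

theorem idx_one : idx (1 : G) = oneI := by rw [← el_one, idx_el one_lt]

/-- the two generators -/
def gen (q : Nat) : G := el (genN q)

theorem gens_top : Subgroup.closure (Set.range gen) = ⊤ := by
  set H := Subgroup.closure (Set.range gen)
  have key : ∀ r i, i < 6048 → treeR i = r → el (eltN i) ∈ H := by
    intro r
    induction r using Nat.strong_induction_on with
    | _ r ih =>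
      intro i hi hr
      have h := allLt_spec tree_ok hi
      simp only [Bool.or_eq_true, Bool.and_eq_true, Nat.blt_eq, Nat.beq_eq] at h
      rcases h with rfl | ⟨hx, hlt, he⟩
      · rw [el_one]; exact H.one_mem
      · have e := el_mul (gen_good _) (elt_good hx) (elt_good hi) id_good he
        rw [el_idN, mul_one] at e
        rw [← e]
        exact H.mul_mem (Subgroup.subset_closure ⟨_, rfl⟩) (ih _ (hr ▸ hlt) _ hx rfl)
  rw [eq_top_iff]
  intro g _
  rw [← el_idx g]
  exact key _ _ (idx_lt g) rfl

theorem genN_two {q : Nat} : genN q = genN 0 ∨ genN q = genN 1 := by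
  rcases q with _ | q
  · exact Or.inl rfl
  · exact Or.inr rfl

/-- class number of an element -/
noncomputable def cls (g : G) : Nat := clsN (idx g)

theorem cls_lt14 (g : G) : cls g < 14 := by
  have h := allLt_spec cls_lt (idx_lt g)
  rwa [Nat.blt_eq] at h

theorem conj_spec {q i : Nat} (hq : q < 2) (hi : i < 6048) :
    conjP q i < 6048 ∧ clsN (conjP q i) = clsN i ∧
      gen q * el (eltN i) * (gen q)⁻¹ = el (eltN (conjP q i)) := by
  have h : conjOK q = true := by
    interval_cases q
    exacts [conj0_ok, conj1_ok]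
  have h := allLt_spec h hi
  simp only [Bool.and_eq_true, Nat.blt_eq, Nat.beq_eq] at h
  refine ⟨h.1, h.2.1, ?_⟩
  have e := el_mul (gen_good q) (elt_good hi) (elt_good h.1) (gen_good q) h.2.2
  show gen q * _ * _ = _
  rw [gen, e, mul_inv_cancel_right]

theorem cls_gen (q : Nat) (g : G) : cls (gen q * g * (gen q)⁻¹) = cls g := by
  have main : ∀ q, q < 2 → cls (gen q * g * (gen q)⁻¹) = cls g := by
    intro q hq
    obtain ⟨h1, h2, h3⟩ := conj_spec hq (idx_lt g)
    rw [el_idx g] at h3
    rw [h3]
    show clsN (idx (el (eltN (conjP q (idx g))))) = clsN (idx g)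
    rw [idx_el h1, h2]
  rcases genN_two (q := q) with h | h
  · rw [show gen q = gen 0 from congrArg el h]; exact main 0 (by norm_num)
  · rw [show gen q = gen 1 from congrArg el h]; exact main 1 (by norm_num)

theorem cls_conj (h g : G) : cls (h * g * h⁻¹) = cls g := by
  have hh : h ∈ Subgroup.closure (Set.range gen) := by rw [gens_top]; trivial
  induction hh using Subgroup.closure_induction generalizing g with
  | mem x hx => obtain ⟨q, rfl⟩ := hx; exact cls_gen q g
  | one => simp
  | mul x y _ _ hx hy => rw [show x * y * g * (x * y)⁻¹ = x * (y * g * y⁻¹) * x⁻¹ by group, hx, hy]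
  | inv x _ hx =>
    have := hx (x⁻¹ * g * x⁻¹⁻¹)
    rw [show x * (x⁻¹ * g * x⁻¹⁻¹) * x⁻¹ = g by group] at this
    exact this.symm

theorem isConj_rep (g : G) : IsConj (el (eltN (repI (cls g)))) g := by
  have key : ∀ r i, i < 6048 → orbR i = r → IsConj (el (eltN (repI (clsN i)))) (el (eltN i)) := by
    intro r
    induction r using Nat.strong_induction_on with
    | _ r ih =>
      intro i hi hr
      have h := allLt_spec orb_ok hi
      simp only [Bool.or_eq_true, Bool.and_eq_true, Nat.blt_eq, Nat.beq_eq] at h
      rcases h with h | ⟨hx, hlt, he⟩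
      · rw [← h]
      · obtain ⟨-, h2, h3⟩ := conj_spec (q := orbQ i) (Nat.mod_lt _ (by norm_num)) hx
        rw [he] at h2 h3
        rw [h2]
        exact (ih _ (hr ▸ hlt) _ hx rfl).trans (isConj_iff.2 ⟨_, h3⟩)
  have := key _ _ (idx_lt g) rfl
  rwa [el_idx] at this

theorem isConj_iff_cls {g h : G} : IsConj g h ↔ cls g = cls h := by
  constructor
  · intro e
    obtain ⟨c, rfl⟩ := isConj_iff.1 e
    exact (cls_conj c g).symm
  · intro e
    have h2 := isConj_rep h
    rw [← e] at h2
    exact (isConj_rep g).symm.trans h2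

theorem countLt_eq : ∀ (n : Nat) (f : Nat → Bool),
    countLt n f = ((Finset.range n).filter fun i => f i = true).card
  | 0, f => by simp [countLt]
  | n + 1, f => by
    rw [Finset.range_add_one, Finset.filter_insert, countLt, countLt_eq n f]
    cases h : f n
    · simp
    · simp [add_comm]

theorem card_filter_fin (n : Nat) (f : Nat → Bool) :
    (Finset.univ.filter fun i : Fin n => f i.val = true).card = countLt n f := by
  rw [countLt_eq]
  refine Finset.card_bij (fun i _ => i.val) ?_ ?_ ?_
  · intro a ha; simpa using (Finset.mem_filter.1 ha).2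
  · intro a _ b _ h; exact Fin.ext h
  · intro b hb
    simp only [Finset.mem_filter, Finset.mem_range] at hb
    exact ⟨⟨b, hb.1⟩, by simp [hb.2], rfl⟩

theorem card_class {c : Nat} (hc : c < 14) :
    (Finset.univ.filter fun g : G => cls g = c).card = szN c ∧ 0 < szN c := by
  have h := allLt_spec sz_ok hc
  simp only [Bool.and_eq_true, Nat.beq_eq, Nat.blt_eq] at h
  refine ⟨?_, h.2⟩
  rw [← h.1, ← card_filter_fin]
  refine Finset.card_equiv eltEquiv.symm fun g => ?_
  rw [Finset.mem_filter, Finset.mem_filter]
  simp [cls, idx, Nat.beq_eq]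

/-- averaging a function over the conjugates of an element -/
theorem sum_conj (f : G → ℂ) (g : G) :
    (szN (cls g) : ℂ) * ∑ x : G, f (x⁻¹ * g * x) =
      (6048 : ℂ) * ∑ y ∈ Finset.univ.filter (fun y : G => cls y = cls g), f y := by
  set C := Finset.univ.filter fun y : G => cls y = cls g
  have h1 : ∀ y ∈ C, ∑ x : G, f (x⁻¹ * y * x) = ∑ x : G, f (x⁻¹ * g * x) := by
    intro y hy
    obtain ⟨c, hc⟩ := isConj_iff.1 (isConj_iff_cls.2 (Finset.mem_filter.1 hy).2)
    refine Fintype.sum_equiv (Equiv.mulLeft c) _ _ fun x => congrArg f ?_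
    simp only [Equiv.coe_mulLeft, ← hc]
    group
  have h2 : ∀ x : G, ∑ y ∈ C, f (x⁻¹ * y * x) = ∑ y ∈ C, f y := by
    intro x
    refine Finset.sum_bij' (fun y _ => x⁻¹ * y * x) (fun y _ => x * y * x⁻¹) ?_ ?_ ?_ ?_ ?_
    · intro y hy
      simp only [C, Finset.mem_filter, Finset.mem_univ, true_and] at hy ⊢
      rw [← hy]
      simpa using cls_conj x⁻¹ y
    · intro y hy
      simp only [C, Finset.mem_filter, Finset.mem_univ, true_and] at hy ⊢
      rw [← hy]
      exact cls_conj x y
    · intro y _; group
    · intro y _; group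
    · intro y _; rfl
  have h3 : ∑ y ∈ C, ∑ x : G, f (x⁻¹ * y * x) = ∑ x : G, ∑ y ∈ C, f (x⁻¹ * y * x) := Finset.sum_comm
  rw [Finset.sum_congr rfl h1, Finset.sum_congr rfl (fun x _ => h2 x), Finset.sum_const,
    Finset.sum_const, (card_class (cls_lt14 g)).1, nsmul_eq_mul, nsmul_eq_mul, Finset.card_univ,
    ← Nat.card_eq_fintype_card, card_G] at h3
  exact_mod_cast h3

end Cfsg.Agent.Lib.U33
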