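import Mathlib
import Cfsg.Agent.Lib.Unitary.Transvection

/-! The field with 9 elements as codes `a + 3 b` for `a + b i`, and `SU₃(3)` matrices coded in natural numbers. -/

set_option autoImplicit false

namespace Cfsg.Agent.Lib.U33

def mulTab : Nat := 0x61523748000000001386245700000000582471360000000026431875000000003271658400000000741852630000000045378612000000008765432100000000000000000
def addTab : Nat := 0x43510276800000003540216870000000543210876000000010276843500000000216873540000000210876543000000076843510200000006873540210000000876543210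
def negTab : Nat := 0x453786120

def nib (T i : Nat) : Nat := Nat.mod (Nat.mod (Nat.shiftRight T (Nat.mul 4 i)) 16) 9
def mulN (a b : Nat) : Nat := nib mulTab (Nat.add (Nat.mul 16 a) b)
def addN (a b : Nat) : Nat := nib addTab (Nat.add (Nat.mul 16 a) b)
def negN (a : Nat) : Nat := nib negTab a

theorem nib_lt (T i : Nat) : nib T i < 9 := Nat.mod_lt _ (by norm_num)
theorem mulN_lt (a b : Nat) : mulN a b < 9 := nib_lt _ _
theorem addN_lt (a b : Nat) : addN a b < 9 := nib_lt _ _
theorem negN_lt (a : Nat) : negN a < 9 := nib_lt _ _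

/-- `F₉` -/
structure K9 where
  v : Fin 9
deriving DecidableEq

def kE (n : Nat) : K9 := ⟨⟨n % 9, Nat.mod_lt _ (by norm_num)⟩⟩

def k9Equiv : Fin 9 ≃ K9 := ⟨K9.mk, K9.v, fun _ => rfl, fun _ => rfl⟩

instance k9Fintype : Fintype K9 := Fintype.ofEquiv _ k9Equiv
instance k9Zero : Zero K9 := ⟨kE 0⟩
instance k9One : One K9 := ⟨kE 1⟩
instance k9Add : Add K9 := ⟨fun a b => kE (addN a.v.val b.v.val)⟩
instance k9Mul : Mul K9 := ⟨fun a b => kE (mulN a.v.val b.v.val)⟩
instance k9Neg : Neg K9 := ⟨fun a => kE (negN a.v.val)⟩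

def conjN (a : Nat) : Nat := mulN (mulN a a) a
def invN (a : Nat) : Nat := mulN (conjN (mulN a a)) a

instance k9Inv : Inv K9 := ⟨fun a => kE (invN a.v.val)⟩

instance k9Field : Field K9 :=
  Field.ofMinimalAxioms K9 (by decide +kernel) (by decide +kernel) (by decide +kernel)
    (by decide +kernel) (by decide +kernel) (by decide +kernel) (by decide +kernel) (by decide +kernel)
    (by decide +kernel) ⟨0, 1, by decide +kernel⟩

theorem card_k9 : Fintype.card K9 = 3 ^ 2 := by
  rw [Fintype.card_congr k9Equiv.symm, Fintype.card_fin]; norm_num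

theorem kE_mul {a b : Nat} (ha : a < 9) (hb : b < 9) : kE (mulN a b) = kE a * kE b := by
  show _ = kE (mulN (a % 9) (b % 9))
  rw [Nat.mod_eq_of_lt ha, Nat.mod_eq_of_lt hb]

theorem kE_add {a b : Nat} (ha : a < 9) (hb : b < 9) : kE (addN a b) = kE a + kE b := by
  show _ = kE (addN (a % 9) (b % 9))
  rw [Nat.mod_eq_of_lt ha, Nat.mod_eq_of_lt hb]

theorem kE_neg {a : Nat} (ha : a < 9) : kE (negN a) = -kE a := by
  show _ = kE (negN (a % 9))
  rw [Nat.mod_eq_of_lt ha]

theorem kE_conj {a : Nat} (ha : a < 9) : kE (conjN a) = kE a ^ 3 := by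
  rw [conjN, kE_mul (mulN_lt _ _) ha, kE_mul ha ha]
  ring

theorem kE_val {a : Nat} (ha : a < 9) : (kE a).v.val = a := Nat.mod_eq_of_lt ha

/-- entry `(i, j)` of a coded matrix -/
def ent (A i j : Nat) : Nat := nib A (Nat.add (Nat.mul 3 i) j)

theorem ent_lt (A i j : Nat) : ent A i j < 9 := nib_lt _ _

def rowN (A i : Nat) : Nat :=
  Nat.add (Nat.add (ent A i 0) (Nat.mul 16 (ent A i 1))) (Nat.mul 256 (ent A i 2))

def rebuild (A : Nat) : Nat :=
  Nat.add (Nat.add (rowN A 0) (Nat.mul 4096 (rowN A 1))) (Nat.mul 16777216 (rowN A 2))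

def dec (A : Nat) : Matrix (Fin 3) (Fin 3) K9 := Matrix.of fun i j => kE (ent A i.val j.val)

def sum3N (f : Nat → Nat) : Nat := addN (addN (f 0) (f 1)) (f 2)

theorem sum3N_lt (f : Nat → Nat) : sum3N f < 9 := addN_lt _ _

theorem kE_sum3 {f : Nat → Nat} (h : ∀ k, f k < 9) :
    kE (sum3N f) = kE (f 0) + kE (f 1) + kE (f 2) := by
  rw [sum3N, kE_add (addN_lt _ _) (h 2), kE_add (h 0) (h 1)]

def prodE (A B i j : Nat) : Nat := sum3N fun k => mulN (ent A i k) (ent B k j)

theorem dec_mul_apply (A B : Nat) (i j : Fin 3) :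
    (dec A * dec B) i j = kE (prodE A B i.val j.val) := by
  rw [prodE, kE_sum3 (fun k => mulN_lt _ _)]
  simp only [Matrix.mul_apply, Fin.sum_univ_three, dec, Matrix.of_apply, Fin.val_zero, Fin.val_one,
    Fin.val_two, kE_mul (ent_lt _ _ _) (ent_lt _ _ _)]

def all3 (f : Nat → Nat → Bool) : Bool :=
  f 0 0 && f 0 1 && f 0 2 && f 1 0 && f 1 1 && f 1 2 && f 2 0 && f 2 1 && f 2 2

theorem all3_spec {f : Nat → Nat → Bool} (h : all3 f = true) (i j : Fin 3) : f i.val j.val = true := by
  simp only [all3, Bool.and_eq_true] at h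
  fin_cases i <;> fin_cases j <;> simp_all

/-- `A * B = C * D` -/
def eqProd (A B C D : Nat) : Bool := all3 fun i j => Nat.beq (prodE A B i j) (prodE C D i j)

theorem eqProd_spec {A B C D : Nat} (h : eqProd A B C D = true) : dec A * dec B = dec C * dec D := by
  ext i j
  rw [dec_mul_apply, dec_mul_apply, Nat.eq_of_beq_eq_true (all3_spec h i j)]

/-- the identity matrix code -/
def idN : Nat := 1 + 16 ^ 4 + 16 ^ 8

theorem dec_idN : dec idN = 1 := by
  ext i j; fin_cases i <;> fin_cases j <;> decide +kernel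

def detN (A : Nat) : Nat :=
  addN (addN (addN (mulN (mulN (ent A 0 0) (ent A 1 1)) (ent A 2 2))
    (negN (mulN (mulN (ent A 0 0) (ent A 1 2)) (ent A 2 1))))
    (addN (negN (mulN (mulN (ent A 0 1) (ent A 1 0)) (ent A 2 2)))
    (mulN (mulN (ent A 0 1) (ent A 1 2)) (ent A 2 0))))
    (addN (mulN (mulN (ent A 0 2) (ent A 1 0)) (ent A 2 1))
    (negN (mulN (mulN (ent A 0 2) (ent A 1 1)) (ent A 2 0))))

theorem dec_det (A : Nat) : (dec A).det = kE (detN A) := by
  rw [detN]
  simp only [Matrix.det_fin_three, dec, Matrix.of_apply, Fin.val_zero, Fin.val_one, Fin.val_two,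
    kE_mul (mulN_lt _ _) (ent_lt _ _ _), kE_mul (ent_lt _ _ _) (ent_lt _ _ _),
    kE_add (addN_lt _ _) (addN_lt _ _), kE_add (mulN_lt _ _) (negN_lt _),
    kE_add (negN_lt _) (mulN_lt _ _), kE_neg (mulN_lt _ _), sub_eq_add_neg]
  ring

def goodN (A : Nat) : Bool :=
  Nat.beq (detN A) 1 && (Nat.beq (rebuild A) A &&
  all3 fun a b => Nat.beq (sum3N fun i => mulN (ent A i a) (conjN (ent A i b)))
    (if Nat.beq a b then 1 else 0))

theorem mem_SU {A : Nat} (h : goodN A = true) (hdet : (dec A).det = 1) :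
    (⟨dec A, hdet⟩ : Matrix.SpecialLinearGroup (Fin 3) K9) ∈ Cfsg.SU 3 K9 3 := by
  simp only [goodN, Bool.and_eq_true] at h
  intro u v
  show Cfsg.hermForm 3 K9 3 ((dec A).mulVec u) ((dec A).mulVec v) = Cfsg.hermForm 3 K9 3 u v
  have hg : ∀ a b : Fin 3, dec A 0 a * dec A 0 b ^ 3 + dec A 1 a * dec A 1 b ^ 3
      + dec A 2 a * dec A 2 b ^ 3 = if a = b then 1 else 0 := by
    intro a b
    have e := congrArg kE (Nat.eq_of_beq_eq_true (all3_spec h.2.2 a b))
    rw [kE_sum3 (fun k => mulN_lt _ _)] at e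
    have hc : ∀ k, conjN (ent A k b.val) < 9 := fun k => mulN_lt _ _
    simp only [kE_mul (ent_lt _ _ _) (hc _), kE_conj (ent_lt _ _ _)] at e
    refine e.trans ?_
    fin_cases a <;> fin_cases b <;> rfl
  have ha : ∀ x y : K9, (x + y) ^ 3 = x ^ 3 + y ^ 3 := fun x y =>
    Cfsg.Agent.Lib.Unitary.add_pow_q card_k9 x y
  have h00 := hg 0 0
  have h01 := hg 0 1
  have h02 := hg 0 2
  have h10 := hg 1 0
  have h11 := hg 1 1
  have h12 := hg 1 2
  have h20 := hg 2 0
  have h21 := hg 2 1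
  have h22 := hg 2 2
  rw [if_pos rfl] at h00 h11 h22
  rw [if_neg (by decide)] at h01 h02 h10 h12 h20 h21
  simp only [Cfsg.hermForm, Fin.sum_univ_three, Matrix.mulVec, dotProduct, ha, mul_pow]
  linear_combination u 0 * v 0 ^ 3 * h00 + u 0 * v 1 ^ 3 * h01 + u 0 * v 2 ^ 3 * h02
    + u 1 * v 0 ^ 3 * h10 + u 1 * v 1 ^ 3 * h11 + u 1 * v 2 ^ 3 * h12
    + u 2 * v 0 ^ 3 * h20 + u 2 * v 1 ^ 3 * h21 + u 2 * v 2 ^ 3 * h22

theorem det_of_good {A : Nat} (h : goodN A = true) : (dec A).det = 1 := by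
  simp only [goodN, Bool.and_eq_true] at h
  rw [dec_det, Nat.eq_of_beq_eq_true h.1]
  rfl

/-- the group element with a given code -/
def el (A : Nat) : ↥(Cfsg.SU 3 K9 3) :=
  if h : goodN A = true then ⟨⟨dec A, det_of_good h⟩, mem_SU h (det_of_good h)⟩ else 1

theorem el_coe {A : Nat} (h : goodN A = true) : (el A).1.1 = dec A := by
  simp [el, h]

theorem el_mul {A B C D : Nat} (hA : goodN A = true) (hB : goodN B = true) (hC : goodN C = true)
    (hD : goodN D = true) (h : eqProd A B C D = true) : el A * el B = el C * el D := by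
  apply Subtype.ext
  apply Subtype.ext
  show (el A).1.1 * (el B).1.1 = (el C).1.1 * (el D).1.1
  rw [el_coe hA, el_coe hB, el_coe hC, el_coe hD]
  exact eqProd_spec h

theorem el_idN : el idN = 1 := by
  apply Subtype.ext
  apply Subtype.ext
  rw [el_coe (by decide +kernel), dec_idN]
  rfl

theorem el_inj {A B : Nat} (hA : goodN A = true) (hB : goodN B = true) (h : el A = el B) : A = B := by
  have e : ∀ i j : Fin 3, ent A i.val j.val = ent B i.val j.val := by
    intro i j
    have e2 : (el A).1.1 i j = (el B).1.1 i j := by rw [h]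
    rw [el_coe hA, el_coe hB] at e2
    have := congrArg (fun x : K9 => x.v.val) e2
    simpa [dec, kE_val (ent_lt _ _ _)] using this
  simp only [goodN, Bool.and_eq_true] at hA hB
  rw [← Nat.eq_of_beq_eq_true hA.2.1, ← Nat.eq_of_beq_eq_true hB.2.1]
  have h00 := e 0 0
  have h01 := e 0 1
  have h02 := e 0 2
  have h10 := e 1 0
  have h11 := e 1 1
  have h12 := e 1 2
  have h20 := e 2 0
  have h21 := e 2 1
  have h22 := e 2 2
  simp only [Fin.val_zero, Fin.val_one, Fin.val_two] at h00 h01 h02 h10 h11 h12 h20 h21 h22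
  simp only [rebuild, rowN, h00, h01, h02, h10, h11, h12, h20, h21, h22]

end Cfsg.Agent.Lib.U33
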