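import Cfsg.Agent.Lib.U33.Group
import Cfsg.Agent.Lib.Induced.Character
import Cfsg.Agent.Lib.Characters.Linear
import Cfsg.Agent.Lib.Characters.Generalized
import Cfsg.Agent.Lib.Isometry.Inner

/-! Irreducible characters of degree 6, 14 and 21 of `SU₃(3)`. -/

set_option autoImplicit false

namespace Cfsg.Agent.Lib.U33

open scoped ComplexConjugate

/-- a primitive 24th root of unity -/
noncomputable def zeta : ℂ := Complex.exp (2 * Real.pi * Complex.I / (24 : ℕ))

theorem zeta_prim : IsPrimitiveRoot zeta 24 := Complex.isPrimitiveRoot_exp 24 (by norm_num)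

theorem zeta_twelve : zeta ^ 12 = -1 :=
  (zeta_prim.pow (show (0:ℕ) < 24 by norm_num) (show 24 = 12 * 2 by norm_num)).eq_neg_one_of_two_right

theorem zeta_eight : zeta ^ 8 = zeta ^ 4 - 1 := by
  have h : (zeta ^ 4 + 1) * (zeta ^ 8 - zeta ^ 4 + 1) = 0 := by linear_combination zeta_twelve
  rcases mul_eq_zero.1 h with h | h
  · exfalso
    refine zeta_prim.pow_ne_one_of_pos_of_lt (show (8:ℕ) ≠ 0 by norm_num) (show 8 < 24 by norm_num) ?_
    linear_combination (zeta ^ 4 - 1) * h
  · linear_combination h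

theorem zeta_mod (n : ℕ) : zeta ^ n = zeta ^ (n % 24) := pow_eq_pow_mod _ zeta_prim.pow_eq_one

theorem sub_ok {s : Nat} (hs : s < 5) : subOK s = true := by
  interval_cases s
  exacts [sub0_ok, sub1_ok, sub2_ok, sub3_ok, sub4_ok]

/-- element number `i` of subgroup `s` -/
def subEl (s i : Nat) : G := el (eltN (subE s i))

/-- the subgroup number `s` -/
def K (s : Nat) : Subgroup G := Subgroup.closure {el (eltN (subG s 0)), el (eltN (subG s 1))}

theorem sub_spec {s : Nat} (hs : s < 5) :
    0 < subN s ∧ subEl s 0 = 1 ∧ (∀ i, i < subN s → subE s i < 6048) ∧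
    (∀ i j, i < subN s → j < i → subE s j ≠ subE s i) ∧
    (∀ i, i < subN s → i = 0 ∨ (subP s i < i ∧ subM s (subQ s i) (subP s i) = i)) ∧
    (∀ q, q < 2 → subEl s (subM s q 0) = el (eltN (subG s q))) ∧
    (∀ i q, i < subN s → q < 2 →
      subM s q i < subN s ∧ subEl s i * el (eltN (subG s q)) = subEl s (subM s q i)) := by
  have h := sub_ok hs
  simp only [subOK, Bool.and_eq_true, Nat.blt_eq, Nat.beq_eq] at h
  obtain ⟨h0, h1, h2, h2', h3, h3', h4⟩ := h
  have hi := fun i (hi : i < subN s) => allLt_spec h4 hi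
  simp only [Bool.and_eq_true, Bool.or_eq_true, Nat.blt_eq, Nat.beq_eq] at hi
  refine ⟨h0, by rw [subEl, h1, el_one], fun i h => (hi i h).1, ?_, fun i h => (hi i h).2.2.1, ?_, ?_⟩
  · intro i j hin hj e
    have := allLt_spec (hi i hin).2.1 hj
    simp only [e, Bool.not_eq_true'] at this
    rw [Nat.beq_refl] at this
    exact absurd this (by decide)
  · intro q hq
    interval_cases q
    · rw [subEl, h3]
    · rw [subEl, h3']
  · intro i q hin hq
    have := allLt_spec (hi i hin).2.2.2 hq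
    simp only [Bool.and_eq_true, Nat.blt_eq] at this
    refine ⟨this.1, ?_⟩
    have hG : subG s q < 6048 := by interval_cases q <;> assumption
    have e := el_mul (elt_good (hi i hin).1) (elt_good hG) (elt_good (hi _ this.1).1) id_good this.2
    rw [el_idN, mul_one] at e
    exact e

theorem subEl_inj {s : Nat} (hs : s < 5) {i j : Nat} (hi : i < subN s) (hj : j < subN s)
    (h : subEl s i = subEl s j) : i = j := by
  obtain ⟨-, -, hlt, hne, -, -, -⟩ := sub_spec hs
  have e : subE s i = subE s j := by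
    have := congrArg idx h
    rwa [subEl, subEl, idx_el (hlt i hi), idx_el (hlt j hj)] at this
  rcases lt_trichotomy i j with h' | h' | h'
  · exact absurd e (hne j i hj h')
  · exact h'
  · exact absurd e.symm (hne i j hi h')

theorem subEl_mem {s : Nat} (hs : s < 5) : ∀ i, i < subN s → subEl s i ∈ K s := by
  obtain ⟨-, h1, -, -, hp, hg, hm⟩ := sub_spec hs
  intro i
  induction i using Nat.strong_induction_on with
  | _ i ih =>
    intro hi
    rcases hp i hi with rfl | ⟨hlt, he⟩
    · rw [h1]; exact one_mem _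
    · have hq : subQ s i < 2 := Nat.mod_lt _ (by norm_num)
      rw [← he, ← (hm _ _ (by omega) hq).2]
      refine mul_mem (ih _ hlt (by omega)) ?_
      apply Subgroup.subset_closure
      generalize subQ s i = q at hq
      interval_cases q
      · exact Set.mem_insert _ _
      · exact Set.mem_insert_of_mem _ rfl

theorem exp_spec {k : Nat} (hk : k < expC.length) :
    expS k < 5 ∧ expN k 0 = 0 ∧ ∀ i q, i < subN (expS k) → q < 2 →
      (expN k i + expN k (subM (expS k) q 0)) % 24 = expN k (subM (expS k) q i) % 24 := by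
  have h := allLt_spec exp_ok hk
  simp only [expOK, Bool.and_eq_true, Nat.blt_eq, Nat.beq_eq] at h
  refine ⟨h.1, h.2.1, fun i q hi hq => ?_⟩
  exact Nat.eq_of_beq_eq_true (allLt_spec (allLt_spec h.2.2 hi) hq)

theorem right_mul {k : Nat} (hk : k < expC.length) {y : G} (hy : y ∈ K (expS k)) :
    ∃ m, ∀ i, i < subN (expS k) → ∃ j, j < subN (expS k) ∧ subEl (expS k) i * y = subEl (expS k) j ∧
      (expN k i + m) % 24 = expN k j % 24 := by
  obtain ⟨hs, -, hhom⟩ := exp_spec hk
  obtain ⟨-, -, -, -, -, -, hm⟩ := sub_spec hs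
  let S : Submonoid G :=
    { carrier := {y | ∃ m, ∀ i, i < subN (expS k) → ∃ j, j < subN (expS k) ∧
        subEl (expS k) i * y = subEl (expS k) j ∧ (expN k i + m) % 24 = expN k j % 24}
      one_mem' := ⟨0, fun i hi => ⟨i, hi, mul_one _, by simp⟩⟩
      mul_mem' := by
        rintro a b ⟨m, ha⟩ ⟨m', hb⟩
        refine ⟨m + m', fun i hi => ?_⟩
        obtain ⟨j, hj, e1, e2⟩ := ha i hi
        obtain ⟨l, hl, e3, e4⟩ := hb j hj
        exact ⟨l, hl, by rw [← mul_assoc, e1, e3], by omega⟩ }
  show y ∈ S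
  have hgen : ∀ q, q < 2 → el (eltN (subG (expS k) q)) ∈ S := fun q hq =>
    ⟨expN k (subM (expS k) q 0), fun i hi =>
      ⟨_, (hm i q hi hq).1, (hm i q hi hq).2, hhom i q hi hq⟩⟩
  induction hy using Subgroup.closure_induction with
  | mem x hx =>
    simp only [Set.mem_insert_iff, Set.mem_singleton_iff] at hx
    rcases hx with rfl | rfl
    exacts [hgen 0 (by norm_num), hgen 1 (by norm_num)]
  | one => exact S.one_mem
  | mul a b _ _ ha hb => exact S.mul_mem ha hb
  | inv a _ ha =>
    obtain ⟨n, hn⟩ := ((isOfFinOrder_of_finite a).mem_powers_iff_mem_zpowers.2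
      ((Subgroup.zpowers a).inv_mem (Subgroup.mem_zpowers a)))
    show a⁻¹ ∈ S
    rw [← hn]
    exact S.pow_mem ha n

theorem exists_index {k : Nat} (hk : k < expC.length) (y : K (expS k)) :
    ∃ j, j < subN (expS k) ∧ (y : G) = subEl (expS k) j := by
  obtain ⟨hs, -, -⟩ := exp_spec hk
  obtain ⟨h0, h1, -⟩ := sub_spec hs
  obtain ⟨m, hm⟩ := right_mul hk y.2
  obtain ⟨j, hj, e, -⟩ := hm 0 h0
  exact ⟨j, hj, by rw [← e, h1, one_mul]⟩

/-- index inside the subgroup -/
noncomputable def sidx {k : Nat} (hk : k < expC.length) (y : K (expS k)) : Nat :=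
  (exists_index hk y).choose

theorem sidx_lt {k : Nat} (hk : k < expC.length) (y : K (expS k)) : sidx hk y < subN (expS k) :=
  (exists_index hk y).choose_spec.1

theorem sidx_el {k : Nat} (hk : k < expC.length) (y : K (expS k)) :
    subEl (expS k) (sidx hk y) = (y : G) :=
  (exists_index hk y).choose_spec.2.symm

theorem sidx_unique {k : Nat} (hk : k < expC.length) (y : K (expS k)) {j : Nat}
    (hj : j < subN (expS k)) (h : subEl (expS k) j = (y : G)) : sidx hk y = j :=
  subEl_inj (exp_spec hk).1 (sidx_lt hk y) hj (by rw [sidx_el, h])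

/-- the linear character number `k` -/
noncomputable def lam {k : Nat} (hk : k < expC.length) : K (expS k) →* ℂˣ :=
  MonoidHom.toHomUnits
    { toFun := fun y => zeta ^ expN k (sidx hk y)
      map_one' := by
        obtain ⟨hs, h0, -⟩ := exp_spec hk
        rw [sidx_unique hk 1 (sub_spec hs).1 (by simpa using (sub_spec hs).2.1), h0, pow_zero]
      map_mul' := fun x y => by
        obtain ⟨hs, h0, -⟩ := exp_spec hk
        obtain ⟨m, hm⟩ := right_mul hk y.2
        obtain ⟨j, hj, ej, em⟩ := hm _ (sidx_lt hk x)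
        obtain ⟨l, hl, el', em'⟩ := hm 0 (sub_spec hs).1
        rw [(sub_spec hs).2.1, one_mul] at el'
        rw [sidx_el] at ej
        rw [sidx_unique hk (x * y) hj (by rw [← ej]; rfl), sidx_unique hk y hl el'.symm,
          ← pow_add, zeta_mod (expN k j), zeta_mod (expN k (sidx hk x) + _), h0] at *
        congr 1
        omega }

theorem lam_apply {k : Nat} (hk : k < expC.length) (y : K (expS k)) :
    ((lam hk y : ℂˣ) : ℂ) = zeta ^ expN k (sidx hk y) := rfl

/-- the induced character number `k` -/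
noncomputable def ind (k : Nat) : G → ℂ :=
  if hk : k < expC.length then
    Cfsg.indFun (K (expS k)) (fun y => ((lam hk y : ℂˣ) : ℂ))
  else 0

theorem isGen_ind {k : Nat} (hk : k < expC.length) : Cfsg.IsGeneralizedCharacter G (ind k) := by
  rw [ind, dif_pos hk]
  refine Characters.Generalized.of_isCharacter (Induced.Character.isCharacter_indFun _ ?_)
  exact ⟨1, Characters.Linear.homRep (lam hk), funext fun y => Characters.Linear.char_homRep _ y⟩

theorem subN_dvd : allLt 5 (fun s => Nat.beq (Nat.mul (Nat.div 6048 (subN s)) (subN s)) 6048) = true := by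
  decide +kernel

theorem sum_fibre (n : Nat) (e : Nat → Nat) (p : Nat → Bool) :
    ∑ i : Fin n, (if p i.val = true then zeta ^ e i.val else 0) =
      ∑ r ∈ Finset.range 24,
        (countLt n (fun i => p i && Nat.beq (e i % 24) r) : ℂ) * zeta ^ r := by
  induction n with
  | zero => simp [countLt]
  | succ n ih =>
    rw [Fin.sum_univ_castSucc]
    simp only [Fin.val_castSucc, Fin.val_last, countLt]
    rw [ih]
    have : (if p n = true then zeta ^ e n else 0) = ∑ r ∈ Finset.range 24,
        ((cond (p n && Nat.beq (e n % 24) r) 1 0 : Nat) : ℂ) * zeta ^ r := by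
      cases p n with
      | false => simp
      | true =>
        rw [if_pos rfl, Finset.sum_eq_single (e n % 24)]
        · simp [Nat.beq_refl, ← zeta_mod]
        · intro r _ hr
          have : Nat.beq (e n % 24) r = false := by
            cases h : Nat.beq (e n % 24) r with
            | false => rfl
            | true => exact absurd (Nat.eq_of_beq_eq_true h) hr.symm
          simp [this]
        · intro h; exact absurd (Finset.mem_range.2 (Nat.mod_lt _ (by norm_num))) h
    rw [this, ← Finset.sum_add_distrib]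
    refine Finset.sum_congr rfl fun r _ => ?_
    push_cast
    simp only [Nat.add_eq, Nat.cast_add]
    ring

theorem ind_value {k : Nat} (hk : k < expC.length) (g : G) :
    (szN (cls g) : ℂ) * ind k g =
      ∑ r ∈ Finset.range 24, (mult k (cls g) r : ℂ) * zeta ^ r := by
  obtain ⟨hs, -, -⟩ := exp_spec hk
  obtain ⟨h0, -, hlt, -, -, -, -⟩ := sub_spec hs
  set n := subN (expS k) with hn
  let E : Fin n ≃ K (expS k) :=
    { toFun := fun i => ⟨subEl _ i.val, subEl_mem hs _ i.2⟩
      invFun := fun y => ⟨sidx hk y, sidx_lt hk y⟩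
      left_inv := fun i => Fin.ext (sidx_unique hk _ i.2 rfl)
      right_inv := fun y => Subtype.ext (sidx_el hk y) }
  have hcard : Nat.card (K (expS k)) = n := by rw [← Nat.card_congr E, Nat.card_fin]
  have hd : (6048 / n) * n = 6048 := Nat.eq_of_beq_eq_true (allLt_spec subN_dvd hs)
  rw [ind, dif_pos hk]
  unfold Cfsg.indFun
  rw [mul_left_comm, sum_conj, hcard]
  set F := Cfsg.extendByZero (K (expS k)) fun y => ((lam hk y : ℂˣ) : ℂ) with hF
  have hsum : ∑ y ∈ Finset.univ.filter (fun y : G => cls y = cls g), F y =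
      ∑ r ∈ Finset.range 24, (countLt n (fun i =>
        Nat.beq (clsN (subE (expS k) i)) (cls g) && Nat.beq (expN k i % 24) r) : ℂ) * zeta ^ r := by
    rw [← sum_fibre, Finset.sum_filter]
    rw [← Finset.sum_subset (Finset.subset_univ (Finset.univ.map
      ⟨fun i => (E i : G), fun a b h => E.injective (Subtype.ext h)⟩))]
    · rw [Finset.sum_map]
      refine Finset.sum_congr rfl fun i _ => ?_
      have hc : cls (E i : G) = clsN (subE (expS k) i.val) := by
        show clsN (idx (subEl _ i.val)) = _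
        rw [subEl, idx_el (hlt _ i.2)]
      simp only [Function.Embedding.coeFn_mk, hc, Nat.beq_eq, decide_eq_true_eq]
      refine if_congr (by show cls (E i : G) = _ ↔ _; rw [hc]) ?_ rfl
      rw [hF, Cfsg.extendByZero]
      show Function.extend Subtype.val (fun y => ((lam hk y : ℂˣ) : ℂ)) (0 : G → ℂ) (E i : G) = _
      rw [Subtype.val_injective.extend_apply, lam_apply]
      rw [show sidx hk (E i) = i.val from congrArg Fin.val (E.left_inv i)]
    · intro y _ hy
      split_ifs
      · rw [hF, Cfsg.extendByZero, Function.extend_apply', Pi.zero_apply]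
        rintro ⟨z, rfl⟩
        exact hy (Finset.mem_map.2 ⟨E.symm z, Finset.mem_univ _, congrArg Subtype.val (E.apply_symm_apply z)⟩)
      · rfl
  rw [hsum, Finset.mul_sum, Finset.mul_sum]
  refine Finset.sum_congr rfl fun r _ => ?_
  have hn0 : (n : ℂ) ≠ 0 := Nat.cast_ne_zero.2 (by omega)
  have hd' : ((6048 / n : ℕ) : ℂ) * n = 6048 := by exact_mod_cast hd
  rw [mult, Nat.mul_eq, Nat.cast_mul, ← hd']
  field_simp
  simp only [show ∀ a b : Nat, Nat.mod a b = a % b from fun _ _ => rfl,
    show ∀ a b : Nat, Nat.div a b = a / b from fun _ _ => rfl, ← hn]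
  ring

theorem zeta_reduce (T : Nat → ℂ) :
    ∑ r ∈ Finset.range 24, T r * zeta ^ r =
      ((T 0 - T 12) - (T 8 - T 20)) + ((T 1 - T 13) - (T 9 - T 21)) * zeta +
      ((T 2 - T 14) - (T 10 - T 22)) * zeta ^ 2 + ((T 3 - T 15) - (T 11 - T 23)) * zeta ^ 3 +
      ((T 4 - T 16) + (T 8 - T 20)) * zeta ^ 4 + ((T 5 - T 17) + (T 9 - T 21)) * zeta ^ 5 +
      ((T 6 - T 18) + (T 10 - T 22)) * zeta ^ 6 + ((T 7 - T 19) + (T 11 - T 23)) * zeta ^ 7 := by
  simp only [Finset.sum_range_succ, Finset.sum_range_zero]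
  linear_combination (T 12 + T 13 * zeta + T 14 * zeta ^ 2 + T 15 * zeta ^ 3 + T 16 * zeta ^ 4
    + T 17 * zeta ^ 5 + T 18 * zeta ^ 6 + T 19 * zeta ^ 7 + T 20 * zeta ^ 8 + T 21 * zeta ^ 9
    + T 22 * zeta ^ 10 + T 23 * zeta ^ 11) * zeta_twelve
    + ((T 8 - T 20) + (T 9 - T 21) * zeta + (T 10 - T 22) * zeta ^ 2 + (T 11 - T 23) * zeta ^ 3) * zeta_eight

/-- the class function given by a combination -/
noncomputable def comb : List (Int × Nat) → G → ℂ
  | [], _ => 0
  | t :: ts, g => (t.1 : ℂ) * ind t.2 g + comb ts g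

theorem isGen_comb : ∀ ts : List (Int × Nat), (∀ t ∈ ts, t.2 < expC.length) →
    Cfsg.IsGeneralizedCharacter G (comb ts)
  | [], _ => Characters.Generalized.zero
  | t :: ts, h => by
    have e : comb (t :: ts) = t.1 • ind t.2 + comb ts := by
      funext g; simp [comb]
    rw [e]
    exact Characters.Generalized.add (Characters.Generalized.zsmul (isGen_ind (h t (by simp))) _)
      (isGen_comb ts fun u hu => h u (by simp [hu]))

theorem comb_value : ∀ ts : List (Int × Nat), (∀ t ∈ ts, t.2 < expC.length) → ∀ g : G,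
    (szN (cls g) : ℂ) * comb ts g = ∑ r ∈ Finset.range 24, (total ts (cls g) r : ℂ) * zeta ^ r
  | [], _, g => by simp [comb, total, sumI]
  | t :: ts, h, g => by
    rw [comb, mul_add, comb_value ts (fun u hu => h u (by simp [hu])) g, mul_left_comm,
      ind_value (h t (by simp)), Finset.mul_sum, ← Finset.sum_add_distrib]
    refine Finset.sum_congr rfl fun r _ => ?_
    simp only [total, sumI, Int.add_def, Int.mul_def, Int.cast_add, Int.cast_mul, Int.ofNat_eq_natCast,
      Int.cast_natCast]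
    ring

theorem sqSum_eq : ∀ (n : Nat) (v : List Int),
    ((sqSum n v : ℕ) : ℤ) = ∑ i ∈ Finset.range n, v.getD (clsN i) 0 * v.getD (clsN i) 0
  | 0, v => by simp [sqSum]
  | n + 1, v => by
    rw [Finset.sum_range_succ, ← sqSum_eq n v, sqSum]
    simp only [Nat.add_eq, Nat.mul_eq, Nat.cast_add, Nat.cast_mul, Int.natCast_natAbs, abs_mul_abs_self]
    ring

theorem iadd (a b : ℤ) : Int.add a b = a + b := rfl
theorem isub (a b : ℤ) : Int.sub a b = a - b := rfl
theorem imul (a b : ℤ) : Int.mul a b = a * b := rfl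

theorem exists_irr {ts : List (Int × Nat)} {v : List Int} {c0 : Int} {d : ℕ}
    (hv : valsOK ts v c0 = true) (hn : sqSum 6048 v = 6048)
    (hd : v.getD (clsN oneI) 0 = d) (hd0 : 0 < d) :
    ∃ χ : Cfsg.IrrCharacter G, (χ : G → ℂ) 1 = d := by
  simp only [valsOK, Bool.and_eq_true, List.all_eq_true, Nat.blt_eq] at hv
  obtain ⟨hts, hvals⟩ := hv
  let θ : G → ℂ := fun g => comb ts g + (c0 : ℂ)
  have hθ : Cfsg.IsGeneralizedCharacter G θ := by
    have e : θ = comb ts + c0 • (fun _ : G => (1 : ℂ)) := by funext g; simp [θ]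
    rw [e]
    exact Characters.Generalized.add (isGen_comb ts hts) (Characters.Generalized.zsmul
      (Characters.Generalized.of_isCharacter Characters.Basic.isCharacter_one) _)
  have hval : ∀ g, θ g = (v.getD (cls g) 0 : ℂ) := by
    intro g
    have h := allLt_spec hvals (cls_lt14 g)
    simp only [Bool.and_eq_true, beq_iff_eq] at h
    have hz : ∀ r, r < 7 → reduced ts (cls g) (r + 1) = 0 := fun r hr => by
      simpa using beq_iff_eq.1 (allLt_spec h.2 hr)
    have hsz : (szN (cls g) : ℂ) ≠ 0 := Nat.cast_ne_zero.2 (card_class (cls_lt14 g)).2.ne'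
    have h1 := comb_value ts hts g
    rw [zeta_reduce] at h1
    set T : Nat → ℤ := fun r => total ts (cls g) r with hT
    have e0 : ((T 0 - T 12 - (T 8 - T 20) : ℤ) : ℂ) = ((szN (cls g) : ℤ) * (v.getD (cls g) 0 - c0) : ℤ) :=
      congrArg (fun z : ℤ => (z : ℂ)) h.1
    have e1 : ((T 1 - T 13 - (T 9 - T 21) : ℤ) : ℂ) = ((0 : ℤ) : ℂ) :=
      congrArg (fun z : ℤ => (z : ℂ)) (hz 0 (by norm_num))
    have e2 : ((T 2 - T 14 - (T 10 - T 22) : ℤ) : ℂ) = ((0 : ℤ) : ℂ) :=
      congrArg (fun z : ℤ => (z : ℂ)) (hz 1 (by norm_num))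
    have e3 : ((T 3 - T 15 - (T 11 - T 23) : ℤ) : ℂ) = ((0 : ℤ) : ℂ) :=
      congrArg (fun z : ℤ => (z : ℂ)) (hz 2 (by norm_num))
    have e4 : ((T 4 - T 16 + (T 8 - T 20) : ℤ) : ℂ) = ((0 : ℤ) : ℂ) :=
      congrArg (fun z : ℤ => (z : ℂ)) (hz 3 (by norm_num))
    have e5 : ((T 5 - T 17 + (T 9 - T 21) : ℤ) : ℂ) = ((0 : ℤ) : ℂ) :=
      congrArg (fun z : ℤ => (z : ℂ)) (hz 4 (by norm_num))
    have e6 : ((T 6 - T 18 + (T 10 - T 22) : ℤ) : ℂ) = ((0 : ℤ) : ℂ) :=
      congrArg (fun z : ℤ => (z : ℂ)) (hz 5 (by norm_num))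
    have e7 : ((T 7 - T 19 + (T 11 - T 23) : ℤ) : ℂ) = ((0 : ℤ) : ℂ) :=
      congrArg (fun z : ℤ => (z : ℂ)) (hz 6 (by norm_num))
    simp only [hT, Int.cast_sub, Int.cast_add, Int.cast_mul, Int.cast_natCast, Int.cast_zero] at e0 e1 e2 e3 e4 e5 e6 e7
    apply mul_left_cancel₀ hsz
    simp only [θ, mul_add]
    rw [h1]
    linear_combination e0 + zeta * e1 + zeta ^ 2 * e2 + zeta ^ 3 * e3 + zeta ^ 4 * e4
      + zeta ^ 5 * e5 + zeta ^ 6 * e6 + zeta ^ 7 * e7
  have h1 : θ 1 = (d : ℂ) := by
    rw [hval, cls, idx_one, hd]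
    simp
  have hnorm : Cfsg.classInner θ θ = 1 := by
    unfold Cfsg.classInner
    simp only [hval, map_intCast]
    rw [← Equiv.sum_comp eltEquiv]
    have : ∀ i : Fin 6048, cls (eltEquiv i) = clsN i.val := fun i => by
      show clsN (idx (elt i)) = _
      rw [elt, idx_el i.2]
    simp only [this]
    rw [← Fin.sum_univ_eq_sum_range (fun i => (v.getD (clsN i) 0 : ℂ) * (v.getD (clsN i) 0 : ℂ)) 6048 |>.symm]
    have h2 := sqSum_eq 6048 v
    rw [hn] at h2
    have h3 := congrArg (fun z : ℤ => (z : ℂ)) h2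
    push_cast at h3
    rw [← h3, card_G]
    norm_num
  rcases Isometry.Inner.signed_of_norm_one hθ hnorm with h | h
  · exact ⟨⟨θ, h⟩, h1⟩
  · exfalso
    obtain ⟨n, hn⟩ := Characters.Basic.exists_degree (χ := -θ) (by
      obtain ⟨m, ρ, -, e⟩ := h; exact ⟨m, ρ, e⟩)
    rw [Pi.neg_apply, h1] at hn
    have h4 : ((n + d : ℕ) : ℂ) = 0 := by push_cast; linear_combination -hn
    have := Nat.cast_eq_zero.1 h4
    omega

theorem exists_deg_six : ∃ χ : Cfsg.IrrCharacter G, (χ : G → ℂ) 1 = (6 : ℕ) :=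
  exists_irr vals6_ok norm6 deg6 (by norm_num)

theorem exists_deg_fourteen : ∃ χ : Cfsg.IrrCharacter G, (χ : G → ℂ) 1 = (14 : ℕ) :=
  exists_irr vals14_ok norm14 deg14 (by norm_num)

theorem exists_deg_twentyone : ∃ χ : Cfsg.IrrCharacter G, (χ : G → ℂ) 1 = (21 : ℕ) :=
  exists_irr vals21_ok norm21 deg21 (by norm_num)

end Cfsg.Agent.Lib.U33
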