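import Cfsg.Agent.Lib.U33.Data

/-! Kernel checks of the `SU₃(3)` certificate. -/

set_option autoImplicit false

namespace Cfsg.Agent.Lib.U33

def field (w : Nat) (D i : Nat) : Nat := Nat.mod (Nat.shiftRight D (Nat.mul w i)) (Nat.pow 2 w)
def look (L : List Nat) (w i : Nat) : Nat := field w (L.getD (Nat.div i 256) 0) (Nat.mod i 256)

def eltN (i : Nat) : Nat := look eltsC 36 i
def genN : Nat → Nat
  | 0 => genA
  | _ => genB
def conjP : Nat → Nat → Nat
  | 0, i => look conj0C 13 i
  | _, i => look conj1C 13 i
def orbR (i : Nat) : Nat := Nat.div (look orbC 27 i) 16384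
def orbX (i : Nat) : Nat := Nat.mod (Nat.div (look orbC 27 i) 2) 8192
def orbQ (i : Nat) : Nat := Nat.mod (look orbC 27 i) 2
def treeR (i : Nat) : Nat := Nat.div (look treeC 27 i) 16384
def treeX (i : Nat) : Nat := Nat.mod (Nat.div (look treeC 27 i) 2) 8192
def treeQ (i : Nat) : Nat := Nat.mod (look treeC 27 i) 2
def clsN (i : Nat) : Nat := look clsC 4 i
def repI (c : Nat) : Nat := field 13 repD c
def szN (c : Nat) : Nat := field 13 szD c

def allLt : Nat → (Nat → Bool) → Bool
  | 0, _ => true
  | n + 1, f => f n && allLt n f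

theorem allLt_spec : ∀ {n : Nat} {f : Nat → Bool}, allLt n f = true → ∀ {i : Nat}, i < n → f i = true
  | n + 1, f, h, i, hi => by
    simp only [allLt, Bool.and_eq_true] at h
    rcases Nat.lt_succ_iff_lt_or_eq.1 hi with h' | rfl
    · exact allLt_spec h.2 h'
    · exact h.1

theorem good_elts : allLt 6048 (fun i => goodN (eltN i)) = true := by decide +kernel
theorem elts_lt : allLt 6047 (fun i => Nat.blt (eltN i) (eltN (Nat.add i 1))) = true := by decide +kernel
theorem good_gens : (goodN genA && goodN genB) = true := by decide +kernel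
theorem one_eq : (Nat.beq (eltN oneI) idN && Nat.blt oneI 6048) = true := by decide +kernel

def conjOK (q : Nat) : Bool := allLt 6048 fun i =>
  Nat.blt (conjP q i) 6048 && (Nat.beq (clsN (conjP q i)) (clsN i) &&
    eqProd (genN q) (eltN i) (eltN (conjP q i)) (genN q))

theorem conj0_ok : conjOK 0 = true := by decide +kernel
theorem conj1_ok : conjOK 1 = true := by decide +kernel

theorem cls_lt : allLt 6048 (fun i => Nat.blt (clsN i) 14) = true := by decide +kernel

theorem orb_ok : allLt 6048 (fun i => Nat.beq i (repI (clsN i)) ||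
    (Nat.blt (orbX i) 6048 && (Nat.blt (orbR (orbX i)) (orbR i) &&
      Nat.beq (conjP (orbQ i) (orbX i)) i))) = true := by decide +kernel

theorem tree_ok : allLt 6048 (fun i => Nat.beq i oneI ||
    (Nat.blt (treeX i) 6048 && (Nat.blt (treeR (treeX i)) (treeR i) &&
      eqProd (genN (treeQ i)) (eltN (treeX i)) (eltN i) idN))) = true := by decide +kernel

def countLt : Nat → (Nat → Bool) → Nat
  | 0, _ => 0
  | n + 1, f => Nat.add (cond (f n) 1 0) (countLt n f)

theorem sz_ok : allLt 14 (fun c => Nat.beq (countLt 6048 fun i => Nat.beq (clsN i) c) (szN c) &&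
    Nat.blt 0 (szN c)) = true := by decide +kernel

/-! ### subgroups -/

def subD : Nat → Nat
  | 0 => sub0D
  | 1 => sub1D
  | 2 => sub2D
  | 3 => sub3D
  | _ => sub4D
def subParD : Nat → Nat
  | 0 => subPar0D
  | 1 => subPar1D
  | 2 => subPar2D
  | 3 => subPar3D
  | _ => subPar4D
def subMulD : Nat → Nat
  | 0 => subMul0D
  | 1 => subMul1D
  | 2 => subMul2D
  | 3 => subMul3D
  | _ => subMul4D
def subGenD : Nat → Nat
  | 0 => subGen0D
  | 1 => subGen1D
  | 2 => subGen2D
  | 3 => subGen3D
  | _ => subGen4D
def subN (s : Nat) : Nat := subSize.getD s 0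
/-- index of the `i`-th element of the subgroup `s` -/
def subE (s i : Nat) : Nat := field 13 (subD s) i
def subP (s i : Nat) : Nat := Nat.div (field 9 (subParD s) i) 2
def subQ (s i : Nat) : Nat := Nat.mod (field 9 (subParD s) i) 2
def subM (s q i : Nat) : Nat := field 8 (subMulD s) (Nat.add (Nat.mul q (subN s)) i)
def subG (s q : Nat) : Nat := field 13 (subGenD s) q

def subOK (s : Nat) : Bool :=
  Nat.blt 0 (subN s) && (Nat.beq (subE s 0) oneI &&
  (Nat.blt (subG s 0) 6048 && (Nat.blt (subG s 1) 6048 &&
  (Nat.beq (subE s (subM s 0 0)) (subG s 0) && (Nat.beq (subE s (subM s 1 0)) (subG s 1) &&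
  allLt (subN s) fun i =>
    Nat.blt (subE s i) 6048 && (allLt i (fun j => !Nat.beq (subE s j) (subE s i)) &&
    ((Nat.beq i 0 || (Nat.blt (subP s i) i && Nat.beq (subM s (subQ s i) (subP s i)) i)) &&
    allLt 2 fun q => Nat.blt (subM s q i) (subN s) &&
      eqProd (eltN (subE s i)) (eltN (subG s q)) (eltN (subE s (subM s q i))) idN)))))))

theorem sub0_ok : subOK 0 = true := by decide +kernel
theorem sub1_ok : subOK 1 = true := by decide +kernel
theorem sub2_ok : subOK 2 = true := by decide +kernel
theorem sub3_ok : subOK 3 = true := by decide +kernel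
theorem sub4_ok : subOK 4 = true := by decide +kernel

/-- the exponent of the linear character `k` at the `i`-th element of its subgroup -/
def expN (k i : Nat) : Nat := field 5 (expC.getD k 0) i
def expS (k : Nat) : Nat := expSub.getD k 0

def expOK (k : Nat) : Bool :=
  Nat.blt (expS k) 5 && (Nat.beq (expN k 0) 0 &&
  allLt (subN (expS k)) fun i => allLt 2 fun q =>
    Nat.beq (Nat.mod (Nat.add (expN k i) (expN k (subM (expS k) q 0))) 24)
      (Nat.mod (expN k (subM (expS k) q i)) 24))

theorem exp_ok : allLt expC.length expOK = true := by decide +kernel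

/-! ### values -/

def sumI : List (Int × Nat) → (Nat → Nat) → Int
  | [], _ => 0
  | t :: ts, f => Int.add (Int.mul t.1 (Int.ofNat (f t.2))) (sumI ts f)

/-- multiplicity of the root of unity of exponent `r`, with the index factor, in class `c` -/
def mult (k c r : Nat) : Nat :=
  Nat.mul (Nat.div 6048 (subN (expS k))) (countLt (subN (expS k)) fun i =>
    Nat.beq (clsN (subE (expS k) i)) c && Nat.beq (Nat.mod (expN k i) 24) r)

def total (ts : List (Int × Nat)) (c r : Nat) : Int := sumI ts fun k => mult k c r
def folded (ts : List (Int × Nat)) (c r : Nat) : Int := Int.sub (total ts c r) (total ts c (Nat.add r 12))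
def reduced (ts : List (Int × Nat)) (c r : Nat) : Int :=
  cond (Nat.blt r 4) (Int.sub (folded ts c r) (folded ts c (Nat.add r 8)))
    (Int.add (folded ts c r) (folded ts c (Nat.add r 4)))

def valsOK (ts : List (Int × Nat)) (v : List Int) (c0 : Int) : Bool :=
  ts.all (fun t => Nat.blt t.2 expC.length) &&
  allLt 14 fun c =>
    (reduced ts c 0 == Int.mul (Int.ofNat (szN c)) (Int.sub (v.getD c 0) c0)) &&
    allLt 7 (fun r => reduced ts c (Nat.add r 1) == 0)

theorem vals6_ok : valsOK terms6 vals6 2 = true := by decide +kernel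
theorem vals14_ok : valsOK terms14 vals14 0 = true := by decide +kernel
theorem vals21_ok : valsOK terms21 vals21 0 = true := by decide +kernel

def sqSum : Nat → List Int → Nat
  | 0, _ => 0
  | n + 1, v => Nat.add (Nat.mul (v.getD (clsN n) 0).natAbs (v.getD (clsN n) 0).natAbs) (sqSum n v)

theorem norm6 : sqSum 6048 vals6 = 6048 := by decide +kernel
theorem norm14 : sqSum 6048 vals14 = 6048 := by decide +kernel
theorem norm21 : sqSum 6048 vals21 = 6048 := by decide +kernel

theorem deg6 : vals6.getD (clsN oneI) 0 = 6 := by decide +kernel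
theorem deg14 : vals14.getD (clsN oneI) 0 = 14 := by decide +kernel
theorem deg21 : vals21.getD (clsN oneI) 0 = 21 := by decide +kernel

end Cfsg.Agent.Lib.U33
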